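import Cfsg.Agent.UniInvol.Classes

/-!
# Products of root elements with parameter one as packed matrices of bits

A square matrix with `N` rows over the field with two elements is one natural number; bit `i * N + c`
is the entry in row `i` and column `c`.
-/

set_option autoImplicit false

namespace CfsgLib.TwistInvol

open Cfsg.Lie CfsgLib.Chevalley CfsgLib.UniInvol

/-- The mask of the row `i` of the off-diagonal entries. -/
def opsMask (i : ℕ) : List (ℕ × ℕ) → ℕ
  | [] => 0
  | p :: L => Nat.xor (bif decide (p.1 = i) then 2 ^ p.2 else 0) (opsMask i L)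

/-- Adding the rows `p.2` to the rows `p.1`. -/
def bOps (N Y : ℕ) : List (ℕ × ℕ) → ℕ
  | [] => Y
  | p :: L => Nat.xor (((Y >>> (p.2 * N)) % 2 ^ N) <<< (p.1 * N)) (bOps N Y L)

/-- The first `k` rows of the identity. -/
def bOne (N : ℕ) : ℕ → ℕ
  | 0 => 0
  | k + 1 => Nat.xor (2 ^ (k * N + k)) (bOne N k)

/-- The product of root elements with parameter one. -/
def bY (N : ℕ) (tbl : List (List (ℕ × ℕ))) : List ℕ → ℕ
  | [] => bOne N N
  | r :: L => bOps N (bY N tbl L) (tbl.getD r [])

/-- The table lists the off-diagonal entries modulo two of the root elements. -/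
def chkOps (D : ChevalleyDatum) (tbl : List (List (ℕ × ℕ))) : Bool :=
  (List.range D.nroots).all fun r =>
    SMat.bounded (D.rank + D.nroots) (xOne D r) &&
    ((tbl.getD r []).all fun p => decide (p.2 < D.rank + D.nroots)) &&
    (List.range (D.rank + D.nroots)).all fun i =>
      Nat.xor (opsMask i (tbl.getD r [])) (2 ^ i) == rowMask ((xOne D r).get i)

/-- Two products of root elements are equal modulo two. -/
def chkSame (D : ChevalleyDatum) (tbl : List (List (ℕ × ℕ))) (L L' : List ℕ) : Bool :=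
  (L.all fun r => decide (r < D.nroots)) && (L'.all fun r => decide (r < D.nroots)) &&
    bY (D.rank + D.nroots) tbl L == bY (D.rank + D.nroots) tbl L'

variable {F : Type*} [Field F]

/-- A bit as a scalar. -/
def bitF (F : Type*) [Field F] (x c : ℕ) : F := if x.testBit c then 1 else 0

theorem bitF_xor [CharP F 2] (x y c : ℕ) : bitF F (Nat.xor x y) c = bitF F x c + bitF F y c := by
  show bitF F (x ^^^ y) c = _
  simp only [bitF, Nat.testBit_xor]
  cases x.testBit c <;> cases y.testBit c <;> simp [CharTwo.add_self_eq_zero]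

theorem bitF_two_pow (j c : ℕ) : bitF F (2 ^ j) c = if j = c then 1 else 0 := by
  simp [bitF, Nat.testBit_two_pow]

theorem bitF_zero (c : ℕ) : bitF F 0 c = 0 := by simp [bitF]

theorem testBit_row {N : ℕ} (Y i j i' c : ℕ) (hc : c < N) :
    (((Y >>> (j * N)) % 2 ^ N) <<< (i * N)).testBit (i' * N + c) =
      (decide (i = i') && Y.testBit (j * N + c)) := by
  rw [Nat.testBit_shiftLeft, Nat.testBit_mod_two_pow, Nat.testBit_shiftRight]
  by_cases h : i = i'
  · subst h
    simp [show i * N + c - i * N = c by omega, hc]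
  · rcases Nat.lt_or_gt_of_ne h with hl | hl
    · have : (i + 1) * N ≤ i' * N := Nat.mul_le_mul_right N hl
      rw [Nat.add_mul, one_mul] at this
      simp [h, show ¬ i' * N + c - i * N < N by omega]
    · have : (i' + 1) * N ≤ i * N := Nat.mul_le_mul_right N hl
      rw [Nat.add_mul, one_mul] at this
      simp [h, show ¬ i * N ≤ i' * N + c by omega]

/-- Packed bits as a matrix. -/
def bMat (F : Type*) [Field F] (l n : ℕ) (Y : ℕ) : Matrix (Fin l ⊕ Fin n) (Fin l ⊕ Fin n) F :=
  fun a b => bitF F Y ((finSumFinEquiv a : ℕ) * (l + n) + (finSumFinEquiv b : ℕ))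

theorem bitF_bOps [CharP F 2] {N : ℕ} (Y : ℕ) (i c : ℕ) (hc : c < N) :
    ∀ L : List (ℕ × ℕ), (∀ p ∈ L, p.2 < N) →
      bitF F (bOps N Y L) (i * N + c) = bitF F Y (i * N + c) +
        ∑ j ∈ Finset.range N, bitF F (opsMask i L) j * bitF F Y (j * N + c)
  | [], _ => by simp [bOps, opsMask, bitF_zero]
  | p :: L, h => by
    rw [bOps, bitF_xor, bitF_bOps Y i c hc L fun q hq => h q (by simp [hq]), opsMask]
    simp only [bitF_xor, add_mul, Finset.sum_add_distrib]
    have e : bitF F (((Y >>> (p.2 * N)) % 2 ^ N) <<< (p.1 * N)) (i * N + c) =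
        if p.1 = i then bitF F Y (p.2 * N + c) else 0 := by
      simp only [bitF, testBit_row Y _ _ _ _ hc]
      by_cases hp : p.1 = i <;> simp [hp]
    rw [e]
    by_cases hp : p.1 = i
    · rw [if_pos hp]
      simp only [hp, decide_true, cond_true, bitF_two_pow, ite_mul, one_mul, zero_mul]
      rw [Finset.sum_ite_eq, if_pos (Finset.mem_range.2 (h p (by simp)))]
      ring
    · simp [hp, bitF]

theorem bitF_bOne [CharP F 2] {N : ℕ} (i c : ℕ) (hc : c < N) :
    ∀ k, k ≤ N → bitF F (bOne N k) (i * N + c) = if i < k ∧ i = c then 1 else 0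
  | 0, _ => by simp [bOne, bitF]
  | k + 1, hk => by
    rw [bOne, bitF_xor, bitF_two_pow, bitF_bOne i c hc k (by omega)]
    have key : k * N + k = i * N + c ↔ k = i ∧ k = c := by
      refine ⟨fun e => ?_, fun ⟨a, b⟩ => by rw [← a, ← b]⟩
      rcases Nat.lt_trichotomy k i with hl | he | hl
      · have : (k + 1) * N ≤ i * N := Nat.mul_le_mul_right N hl
        rw [Nat.add_mul, one_mul] at this
        omega
      · exact ⟨he, by subst he; omega⟩
      · have : (i + 1) * N ≤ k * N := Nat.mul_le_mul_right N hl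
        rw [Nat.add_mul, one_mul] at this
        omega
    rw [if_congr key rfl rfl]
    by_cases h1 : i = c
    · subst h1
      rcases Nat.lt_trichotomy i k with hl | he | hl
      · rw [if_neg (by omega), if_pos ⟨hl, rfl⟩, if_pos ⟨by omega, rfl⟩, zero_add]
      · rw [if_pos ⟨he.symm, he.symm⟩, if_neg (by omega), if_pos ⟨by omega, rfl⟩, add_zero]
      · rw [if_neg (by omega), if_neg (by omega), if_neg (by omega), add_zero]
    · rw [if_neg (fun h => h1 (h.1.symm.trans h.2)), if_neg (fun h => h1 h.2),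
        if_neg (fun h => h1 h.2), add_zero]

theorem matOf_mul_bMat [CharP F 2] {l n : ℕ} {A : SMat} {ops : List (ℕ × ℕ)}
    (hops : ∀ p ∈ ops, p.2 < l + n)
    (hA : ∀ i < l + n, Nat.xor (opsMask i ops) (2 ^ i) = rowMask (A.get i)) (Y : ℕ) :
    matOf F l n A * bMat F l n Y = bMat F l n (bOps (l + n) Y ops) := by
  ext a b
  rw [Matrix.mul_apply]
  have hm : ∀ j : Fin l ⊕ Fin n, matOf F l n A a j =
      bitF F (opsMask (finSumFinEquiv a : ℕ) ops) (finSumFinEquiv j : ℕ) +
        if (finSumFinEquiv a : ℕ) = (finSumFinEquiv j : ℕ) then 1 else 0 := by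
    intro j
    simp only [matOf, Matrix.map_apply, SMat.toMat_apply, SMat.den, eq_intCast]
    rw [← bitF_two_pow, ← bitF_xor, hA _ (Fin.is_lt _), cast_odd, bitF, testBit_rowMask]
    simp only [decide_eq_true_eq]
    split_ifs <;> first | rfl | omega
  simp only [hm, add_mul, Finset.sum_add_distrib, bMat]
  rw [bitF_bOps Y _ _ (Fin.is_lt _) ops hops, add_comm]
  congr 1
  · rw [Finset.sum_eq_single a]
    · rw [if_pos rfl, one_mul]
    · intro x _ hx
      rw [if_neg fun e => hx (finSumFinEquiv.injective (Fin.ext e.symm)), zero_mul]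
    · intro hn
      exact absurd (Finset.mem_univ _) hn
  · rw [← Fin.sum_univ_eq_sum_range
      (fun j => bitF F (opsMask (finSumFinEquiv a : ℕ) ops) j *
        bitF F Y (j * (l + n) + (finSumFinEquiv b : ℕ))) (l + n)]
    exact finSumFinEquiv.sum_comp (fun j : Fin (l + n) =>
      bitF F (opsMask (finSumFinEquiv a : ℕ) ops) j *
        bitF F Y ((j : ℕ) * (l + n) + (finSumFinEquiv b : ℕ)))

variable {D : ChevalleyDatum} {hW : GoodWeyl D} {tbl : List (List (ℕ × ℕ))}

theorem coe_pat_eq_bMat [CharP F 2] (hT : chkOps D tbl = true) : ∀ L : List ℕ, (∀ r ∈ L, r < D.nroots) →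
    (pat F hW L : Matrix D.Idx D.Idx F) = bMat F D.rank D.nroots (bY (D.rank + D.nroots) tbl L)
  | [], _ => by
    rw [pat_nil, Units.val_one, bY]
    ext a b
    rw [bMat, bitF_bOne _ _ (Fin.is_lt _) _ le_rfl, Matrix.one_apply]
    exact if_congr ⟨fun h => ⟨Fin.is_lt _, by rw [h]⟩,
      fun h => finSumFinEquiv.injective (Fin.ext h.2)⟩ rfl rfl
  | k :: L, h => by
    have hk := h k (by simp)
    simp only [chkOps, Bool.and_eq_true, List.all_eq_true, decide_eq_true_eq, beq_iff_eq,
      List.mem_range] at hT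
    obtain ⟨⟨-, h1⟩, h2⟩ := hT k hk
    rw [pat_cons, Units.val_mul, coe_pat_eq_bMat (by
      simp only [chkOps, Bool.and_eq_true, List.all_eq_true, decide_eq_true_eq, beq_iff_eq,
        List.mem_range]
      exact hT) L fun r hr => h r (by simp [hr]), bY, ← matOf_mul_bMat h1 h2, xk, dif_pos hk,
      ← matOf_xOne hW.good ⟨k, hk⟩]

theorem pat_eq_of_chkSame [CharP F 2] (hT : chkOps D tbl = true) {L L' : List ℕ}
    (h : chkSame D tbl L L' = true) : pat F hW L = pat F hW L' := by
  simp only [chkSame, Bool.and_eq_true, List.all_eq_true, decide_eq_true_eq, beq_iff_eq] at h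
  refine Units.ext ?_
  rw [coe_pat_eq_bMat hT L h.1.1, coe_pat_eq_bMat hT L' h.1.2, h.2]

/-- Conjugation of one product into another, without inverses. -/
def chkConj (D : ChevalleyDatum) (tbl : List (List (ℕ × ℕ))) (W M Q : List ℕ) : Bool :=
  chkSame D tbl (W ++ M) (Q ++ W)

theorem pat_conj_of_chk [CharP F 2] (hT : chkOps D tbl = true) {W M Q : List ℕ}
    (h : chkConj D tbl W M Q = true) :
    pat F hW W * pat F hW M * (pat F hW W)⁻¹ = pat F hW Q := by
  rw [← pat_append, pat_eq_of_chkSame hT h, pat_append, mul_inv_cancel_right]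

end CfsgLib.TwistInvol
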