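import Cfsg.Agent.TwistInvol.Perms

/-!
# Involutions of a twisted group in characteristic two and the Weyl group

An involution conjugated into a Bruhat cell of largest length is the monomial element of one of the
candidates `w₀ w_{0,J}`.
-/

set_option autoImplicit false

namespace CfsgLib.TwistInvol

open Cfsg.Lie CfsgLib.Chevalley CfsgLib.GraphTwist

variable {D : ChevalleyDatum} {τ : Setup D} {K : Type*} [Field K] {Φ : FieldTwist τ K} [Finite K]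

/-- The permutation of the middle factor is unique. -/
theorem perm_unique {u v u' v' m m' : GL D.Idx K} (hu : u ∈ Φ.U1) (hv : v ∈ Φ.U1) (hu' : u' ∈ Φ.U1)
    (hv' : v' ∈ Φ.U1) (hm : m ∈ Φ.M₀) (hm' : m' ∈ Φ.M₀) {π π' : Equiv.Perm (Root D)}
    (h : MonBy τ.good m π) (h' : MonBy τ.good m' π') (e : u * m * v = u' * m' * v') : π = π' := by
  let N : ↥(D.monomialSubgroup K) := ⟨m, Φ.M₀_le_monomial hm⟩
  let N' : ↥(D.monomialSubgroup K) := ⟨m', Φ.M₀_le_monomial hm'⟩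
  have h1 := mul_mem_cell τ.good τ.rootGood (pos_le_borel D hu.1)
    (mem_cell_self τ.good τ.rootGood N) (pos_le_borel D hv.1)
  have h2 := mul_mem_cell τ.good τ.rootGood (pos_le_borel D hu'.1)
    (mem_cell_self τ.good τ.rootGood N') (pos_le_borel D hv'.1)
  rw [show ((N : GL D.Idx K)) = m from rfl, e] at h1
  have h3 := cell_eq_of_mem τ.good τ.rootGood h1 h2
  have a := (monBy_weylHom τ.good τ.rootGood N).unique h
  have b := (monBy_weylHom τ.good τ.rootGood N').unique h'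
  rw [← a, ← b, h3]

/-- No conjugate lies in a longer cell. -/
def IsMax (Φ : FieldTwist τ K) (g : GL D.Idx K) (n : ℕ) : Prop :=
  ∀ h ∈ Φ.tG, ∀ u ∈ Φ.U1, ∀ m ∈ Φ.M₀, ∀ v ∈ Φ.U1, ∀ π, MonBy τ.good m π →
    h * g * h⁻¹ = u * m * v → (negOf π).card ≤ n

theorem exists_max {g : GL D.Idx K} (hg : g ∈ Φ.tG) :
    ∃ h ∈ Φ.tG, ∃ u ∈ Φ.U1, ∃ m ∈ Φ.M₀, ∃ π, MonBy τ.good m π ∧
      h * g * h⁻¹ = u * m ∧ IsMax Φ g (negOf π).card := by
  classical
  set S : Set ℕ := {k | ∃ h ∈ Φ.tG, ∃ u ∈ Φ.U1, ∃ m ∈ Φ.M₀, ∃ v ∈ Φ.U1, ∃ π,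
    MonBy τ.good m π ∧ h * g * h⁻¹ = u * m * v ∧ (negOf π).card = k}
  have hne : S.Nonempty := by
    obtain ⟨u, hu, m, hm, v, hv, e⟩ := Φ.exists_decomp hg
    obtain ⟨w, hw⟩ := Φ.exists_θ hm
    exact ⟨_, 1, one_mem _, u, hu, m, hm, v, hv, _, hw, by rw [e]; group, rfl⟩
  have hb : BddAbove S := ⟨Fintype.card (Root D), by
    rintro k ⟨h, -, u, -, m, -, v, -, π, -, -, rfl⟩
    exact Finset.card_le_univ _⟩
  obtain ⟨h, hh, u, hu, m, hm, v, hv, π, hπ, e, hk⟩ := Nat.sSup_mem hne hb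
  refine ⟨v * h, mul_mem (Φ.U1_le_tG hv) hh, v * u, mul_mem hv hu, m, hm, π, hπ, ?_, ?_⟩
  · rw [show v * h * g * (v * h)⁻¹ = v * (h * g * h⁻¹) * v⁻¹ by group, e]
    group
  · intro h' hh' u' hu' m' hm' v' hv' π' hπ' e'
    rw [hk]
    exact le_csSup hb ⟨h', hh', u', hu', m', hm', v', hv', π', hπ', e', rfl⟩

theorem compl_conj_U1 (o : Fin τ.cfg.m) {z : GL D.Idx K} (hz : z ∈ rootGen τ.good.good K (τ.compl o))
    (hf : z ∈ Φ.fix) : Φ.nO o * z * (Φ.nO o)⁻¹ ∈ Φ.U1 := by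
  refine Subgroup.mem_inf.2 ⟨?_, mul_mem (mul_mem (Φ.nO_mem_fix o) hf) (inv_mem (Φ.nO_mem_fix o))⟩
  rw [posUnipotent_eq_rootGen τ.good.good]
  exact rootGen_mono _ (fun r hr => hr.1) (Φ.nO_conj_compl o hz)

theorem monBy_conj_nO {m : GL D.Idx K} {π : Equiv.Perm (Root D)} (hπ : MonBy τ.good m π)
    (o : Fin τ.cfg.m) : MonBy τ.good (Φ.nO o * m * (Φ.nO o)⁻¹) (τ.wR o * π * τ.wR o) := by
  have := ((Φ.monBy_nO o).mul hπ).mul (Φ.monBy_nO o).inv
  rwa [τ.wR_inv] at this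

/-- The step at a fundamental orbit which stays positive. -/
theorem max_step {g : GL D.Idx K} {n : ℕ} (hmax : IsMax Φ g n) {h u m : GL D.Idx K} (hh : h ∈ Φ.tG)
    (hu : u ∈ Φ.U1) (hm : m ∈ Φ.M₀) {π : Equiv.Perm (Root D)} (hπ : MonBy τ.good m π) (h2 : π * π = 1)
    (e : h * g * h⁻¹ = u * m) (hn : (negOf π).card = n) (o : Fin τ.cfg.m)
    (ho : half D ≤ (π (τ.spR o) : ℕ)) :
    π (τ.spR o) ∈ τ.orb (τ.spR o) ∧ u ∈ rootGen τ.good.good K (τ.compl o) := by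
  have hR : Real Φ π := ⟨m, hm, hπ⟩
  have hπi : π⁻¹ = π := inv_eq_of_mul_eq_one_right h2
  obtain ⟨v, hv', x, hx, rfl⟩ := Φ.exists_split_U1 o hu
  obtain ⟨hv, hvf⟩ := Subgroup.mem_inf.1 hv'
  have hv1 : Φ.nO o * v * (Φ.nO o)⁻¹ ∈ Φ.U1 := compl_conj_U1 o hv hvf
  have hm1 : Φ.nO o * m * (Φ.nO o)⁻¹ ∈ Φ.M₀ :=
    mul_mem (mul_mem (Φ.nO_mem_M₀ o) hm) (inv_mem (Φ.nO_mem_M₀ o))
  have hh1 : Φ.nO o * h ∈ Φ.tG := mul_mem (Φ.nO_mem_tG o) hh
  have ec : Φ.nO o * h * g * (Φ.nO o * h)⁻¹ = Φ.nO o * (v * Φ.oX (τ.spR o) x * m) * (Φ.nO o)⁻¹ := by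
    rw [← e]; group
  by_cases hmem : π (τ.spR o) ∈ τ.orb (τ.spR o)
  · refine ⟨hmem, ?_⟩
    by_cases hx0 : x = 0
    · rw [hx0, Φ.oX_zero, mul_one]; exact hv
    exfalso
    obtain ⟨c, hc⟩ := Φ.conj_oX (Φ.monBy_nO o) (Φ.nO_mem_fix o) (τ.spR o)
    obtain ⟨hy, ey⟩ := hc x hx
    rw [τ.wR_orb (τ.self_mem_orb _)] at hy ey
    rw [Φ.adm_rev] at hy
    set y := Units.mk0 ((c : K) * x) (mul_ne_zero c.ne_zero hx0)
    have hyU : Φ.AdmU (τ.spR o) (-y)⁻¹ :=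
      Φ.admU_inv (Φ.admU_iff.2 (by rw [Units.val_neg]; exact hy.neg))
    have hid := Φ.oX_oY_oX o (-y)⁻¹
    rw [inv_inv, Units.val_neg, neg_neg] at hid
    set a : K := (((-y)⁻¹ : Kˣ) : K)
    have ha : Φ.Adm (τ.spR o) (-a) := (Φ.admU_iff.1 hyU).neg
    have hY : Φ.oX (τ.spR o).rev ((c : K) * x) =
        Φ.oX (τ.spR o) (-a) * (Φ.oH (τ.spR o) (-y)⁻¹ * Φ.nO o) * Φ.oX (τ.spR o) (-a) := by
      rw [← hid, ← Φ.oX_inv]
      simp only [y, Units.val_mk0]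
      group
    have hcomm := hR.commute_wR hmem
    have hm1π : MonBy τ.good (Φ.nO o * m * (Φ.nO o)⁻¹) π := by
      have := monBy_conj_nO (Φ := Φ) hπ o
      rwa [← hcomm, mul_assoc π, τ.wR_wR, mul_one] at this
    obtain ⟨d, hd⟩ := Φ.conj_oX hm1π.inv (inv_mem (Φ.M₀_le_fix hm1)) (τ.spR o)
    obtain ⟨hz, ez⟩ := hd (-a) ha
    rw [hπi] at hz ez
    have hnew : MonBy τ.good (Φ.oH (τ.spR o) (-y)⁻¹ * Φ.nO o * (Φ.nO o * m * (Φ.nO o)⁻¹)) (π * τ.wR o) := by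
      have := ((monBy_diag τ.good (Φ.H₀_le_diag (Φ.oH_mem hyU))).mul (Φ.monBy_nO o)).mul hm1π
      rwa [one_mul, ← hcomm] at this
    have hle := hmax _ hh1 (Φ.nO o * v * (Φ.nO o)⁻¹ * Φ.oX (τ.spR o) (-a))
      (mul_mem hv1 ⟨Φ.oX_mem_pos (τ.spR_pos o) _, Φ.oX_mem_fix ha⟩) _
      (mul_mem (mul_mem (Φ.H₀_le_M₀ (Φ.oH_mem hyU)) (Φ.nO_mem_M₀ o)) hm1)
      (Φ.oX (π (τ.spR o)) ((d : K) * -a)) ⟨Φ.oX_mem_pos ho _, Φ.oX_mem_fix hz⟩ _ hnew ?_
    · have := card_lt_mul hR hmem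
      omega
    · rw [ec, show Φ.nO o * (v * Φ.oX (τ.spR o) x * m) * (Φ.nO o)⁻¹ =
        Φ.nO o * v * (Φ.nO o)⁻¹ * (Φ.nO o * Φ.oX (τ.spR o) x * (Φ.nO o)⁻¹) * (Φ.nO o * m * (Φ.nO o)⁻¹) by group, ey, hY, ← ez]
      group
  · exfalso
    obtain ⟨c, hc⟩ := Φ.conj_oX hπ.inv (inv_mem (Φ.M₀_le_fix hm)) (τ.spR o)
    obtain ⟨hz, ez⟩ := hc x hx
    rw [hπi] at hz ez
    have hzc : Φ.oX (π (τ.spR o)) ((c : K) * x) ∈ rootGen τ.good.good K (τ.compl o) := by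
      refine rootGen_mono _ (show {a | a ∈ τ.orb (π (τ.spR o))} ⊆ τ.compl o from fun a ha => ⟨?_, ?_⟩)
        (Φ.oX_mem_rootGen _ _)
      · exact τ.orb_pos ho ha
      · exact fun ha' => hmem (τ.orb_disjoint ha ha')
    have hle := hmax _ hh1 _ hv1 _ hm1 _ (compl_conj_U1 o hzc (Φ.oX_mem_fix hz)) _
      (monBy_conj_nO hπ o) ?_
    · have := card_lt_conj hR h2 ho hmem
      omega
    · rw [ec, ← ez]
      group

/-- Moving through the fundamental reflections which fix their roots. -/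
theorem max_word {g : GL D.Idx K} {n : ℕ} (hmax : IsMax Φ g n) {π : Equiv.Perm (Root D)}
    (h2 : π * π = 1) (hn : (negOf π).card = n) {h u m : GL D.Idx K} (hh : h ∈ Φ.tG) (hu : u ∈ Φ.U1)
    (hm : m ∈ Φ.M₀) (hπ : MonBy τ.good m π) (e : h * g * h⁻¹ = u * m) :
    ∀ L : List ℕ, (∀ o ∈ L, ∃ ho : o < τ.cfg.m, π (τ.spR ⟨o, ho⟩) ∈ τ.orb (τ.spR ⟨o, ho⟩)) →
      nWord Φ L * u * (nWord Φ L)⁻¹ ∈ Φ.U1 ∧ MonBy τ.good (nWord Φ L * m * (nWord Φ L)⁻¹) π
  | [], _ => by simpa [nWord] using And.intro hu hπ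
  | o :: L, hL => by
    obtain ⟨ho, hmem⟩ := hL o (by simp)
    obtain ⟨h1, h1'⟩ := max_word hmax h2 hn hh hu hm hπ e L fun x hx => hL x (by simp [hx])
    have hN : nWord Φ L ∈ Φ.M₀ := nWord_mem Φ L
    obtain ⟨-, hc⟩ := max_step hmax (mul_mem (Φ.M₀_le_tG hN) hh) h1
      (mul_mem (mul_mem hN hm) (inv_mem hN)) h1' h2
      (by rw [show nWord Φ L * h * g * (nWord Φ L * h)⁻¹ = nWord Φ L * (h * g * h⁻¹) * (nWord Φ L)⁻¹
          by group, e]; group) hn ⟨o, ho⟩ (τ.orb_spR_pos hmem)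
    have hcons : nWord Φ (o :: L) = Φ.nO ⟨o, ho⟩ * nWord Φ L := by
      simp [nWord, dif_pos ho]
    have hR : Real Φ π := ⟨m, hm, hπ⟩
    refine ⟨?_, ?_⟩
    · rw [hcons, show Φ.nO ⟨o, ho⟩ * nWord Φ L * u * (Φ.nO ⟨o, ho⟩ * nWord Φ L)⁻¹ =
        Φ.nO ⟨o, ho⟩ * (nWord Φ L * u * (nWord Φ L)⁻¹) * (Φ.nO ⟨o, ho⟩)⁻¹ by group]
      exact compl_conj_U1 _ hc h1.2
    · rw [hcons, show Φ.nO ⟨o, ho⟩ * nWord Φ L * m * (Φ.nO ⟨o, ho⟩ * nWord Φ L)⁻¹ =
        Φ.nO ⟨o, ho⟩ * (nWord Φ L * m * (nWord Φ L)⁻¹) * (Φ.nO ⟨o, ho⟩)⁻¹ by group]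
      have := monBy_conj_nO (Φ := Φ) h1' ⟨o, ho⟩
      rwa [← hR.commute_wR hmem, mul_assoc π, τ.wR_wR, mul_one] at this

/-- A candidate: a word and a word for the longest element fixing it. -/
def chkCand (T : GraphTwist.Cfg D) (c : List ℕ × List ℕ) : Bool :=
  c.1.all (fun o => decide (o < T.m)) &&
  c.2.all (fun o => decide (o < T.m) && (T.orbN (T.sp o)).contains (T.wW c.1 (T.sp o))) &&
  (List.range' (half D) (half D)).all fun r => decide (T.wW (c.1 ++ c.2.reverse) r < half D)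

/-- Every admissible state is the state of a candidate. -/
def chkCover (T : GraphTwist.Cfg D) (tab : List (List ℕ × List ℕ)) (cands : List (List ℕ × List ℕ)) :
    Bool :=
  cands.all (chkCand T) && tab.all fun e =>
    ((List.range T.m).any fun o =>
        decide (half D ≤ e.1.getD o 0) && !(T.orbN (T.sp o)).contains (e.1.getD o 0)) ||
      cands.any fun c => (List.range T.m).all fun o => decide (T.wW c.1 (T.sp o) = e.1.getD o 0)

theorem wPermW_append (a b : List ℕ) : wPermW τ (a ++ b) = wPermW τ a * wPermW τ b := by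
  simp [wPermW, List.prod_append]

theorem wPermW_reverse : ∀ L : List ℕ, wPermW τ L.reverse = (wPermW τ L)⁻¹
  | [] => by simp [wPermW]
  | o :: L => by
    rw [List.reverse_cons, wPermW_append, wPermW_reverse L,
      show wPermW τ (o :: L) = wPermW τ [o] * wPermW τ L from wPermW_append [o] L, mul_inv_rev]
    congr 1
    refine (inv_eq_of_mul_eq_one_right ?_).symm
    simp only [wPermW, List.map_cons, List.map_nil, List.prod_cons, List.prod_nil, mul_one]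
    split
    · exact τ.wR_wR _
    · exact one_mul _

variable [CharP K 2]

theorem odd_orderOf_H₀ {t : GL D.Idx K} (ht : t ∈ Φ.H₀) : ∃ d, t ^ (2 * d + 1) = 1 := by
  have := Fintype.ofFinite K
  classical
  obtain ⟨c, -, rfl⟩ := ht
  obtain ⟨k, hk⟩ : ∃ k, Fintype.card Kˣ = 2 * k + 1 := by
    rw [Fintype.card_units]
    have hev : Even (Fintype.card K) := by
      obtain ⟨n, hp, hn⟩ := FiniteField.card K 2
      rw [hn]
      exact Even.pow_of_ne_zero even_two n.ne_zero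
    obtain ⟨j, hj⟩ := hev
    have := Fintype.card_pos (α := K)
    exact ⟨j - 1, by omega⟩
  refine ⟨k, ?_⟩
  rw [← map_pow, show c ^ (2 * k + 1) = 1 from funext fun i => by
    rw [Pi.pow_apply, Pi.one_apply, ← hk]; exact pow_card_eq_one, map_one]

/-- Every involution is conjugate to the monomial element of a candidate. -/
theorem exists_conj_nWord (hθ : τ.Faithful) {n : ℕ} {tab : List (List ℕ × List ℕ)} {idx : Trie (List ℕ)}
    {cands : List (List ℕ × List ℕ)} (htab : chkStates τ.cfg n tab idx = true) (h0 : tab ≠ [])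
    (hcov : chkCover τ.cfg tab cands = true) (hsq : ∀ c ∈ cands, nWord Φ c.1 * nWord Φ c.1 = 1)
    {g : GL D.Idx K} (hg : g ∈ Φ.tG) (hg2 : g * g = 1) :
    ∃ c ∈ cands, ∃ h ∈ Φ.tG, h * g * h⁻¹ = nWord Φ c.1 := by
  obtain ⟨h, hh, u, hu, m, hm, π, hπ, e, hmax⟩ := exists_max hg
  have hsq1 : u * m * (u * m) = 1 := by
    rw [← e, show h * g * h⁻¹ * (h * g * h⁻¹) = h * (g * g) * h⁻¹ by group, hg2]
    group
  have h2 : π * π = 1 := by
    have e' : u * m * 1 = 1 * m⁻¹ * u⁻¹ := by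
      rw [mul_one, one_mul, eq_inv_of_mul_eq_one_left hsq1]
      group
    have := perm_unique hu (one_mem _) (one_mem _) (inv_mem hu) hm (inv_mem hm) hπ hπ.inv e'
    nth_rewrite 2 [this]
    rw [mul_inv_cancel]
  -- the state of `π` is the state of a candidate
  obtain ⟨w, hw⟩ := Φ.exists_θ hm
  obtain rfl := hπ.unique hw
  obtain ⟨s, hs, hst⟩ := chkStates_spec htab h0 w
  simp only [chkCover, Bool.and_eq_true, List.all_eq_true] at hcov
  have hcs := hcov.2 s hs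
  simp only [Bool.or_eq_true, List.any_eq_true, List.all_eq_true, List.mem_range, Bool.and_eq_true,
    decide_eq_true_eq, Bool.not_eq_true', List.contains_eq_mem, decide_eq_false_iff_not] at hcs
  rcases hcs with ⟨o, ho, hpos, hno⟩ | ⟨c, hc, hcimg⟩
  · exfalso
    rw [← hst ⟨o, ho⟩] at hpos hno
    have := (max_step hmax hh hu hm hπ h2 e rfl ⟨o, ho⟩ hpos).1
    exact hno (τ.mem_orbN_iff.2 this)
  have hcc := hcov.1 c hc
  simp only [chkCand, Bool.and_eq_true, List.all_eq_true, decide_eq_true_eq, List.contains_eq_mem] at hcc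
  obtain ⟨⟨hc1, hc2⟩, hc3⟩ := hcc
  have hπc : τ.θ w = wPermW τ c.1 :=
    Real.ext (Φ := Φ) ⟨m, hm, hπ⟩ (real_wPermW Φ c.1) fun o => Fin.ext (by
      rw [hst o, wPermW_val hc1, Setup.spR_val, hcimg o o.2])
  obtain ⟨hJ, -⟩ := max_word hmax h2 rfl hh hu hm hπ e c.2 fun o ho => by
    refine ⟨(hc2 o ho).1, τ.mem_orbN_iff.1 ?_⟩
    rw [hπc, wPermW_val hc1]
    exact (hc2 o ho).2
  -- the conjugate of `u` by `m` is negative
  have hperm : MonBy τ.good (m * (nWord Φ c.2)⁻¹) (wPermW τ (c.1 ++ c.2.reverse)) := by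
    rw [wPermW_append, wPermW_reverse, ← hπc]
    exact hπ.mul (monBy_nWord Φ c.2).inv
  have hy : m * u * m⁻¹ ∈ D.negUnipotent K := by
    have hp : nWord Φ c.2 * u * (nWord Φ c.2)⁻¹ ∈ rootGen τ.good.good K (posSet D) :=
      posUnipotent_eq_rootGen (F := K) τ.good.good ▸ hJ.1
    have := hperm.conj_rootGen (T := negSet D) (fun r (hr : half D ≤ (r : ℕ)) => ?_) hp
    · rw [negUnipotent_eq_rootGen τ.good.good]
      convert this using 1
      group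
    · show (_ : ℕ) < half D
      rw [wPermW_val (fun o ho => by
        rcases List.mem_append.1 ho with ho | ho
        · exact hc1 o ho
        · exact (hc2 o (List.mem_reverse.1 ho)).1)]
      refine hc3 r (List.mem_range'_1.2 ⟨hr, ?_⟩)
      have := τ.good.good.two_half
      have := r.2
      omega
  have hmm : m * m ∈ Φ.H₀ :=
    Φ.mem_H₀_of_monBy_one hθ (mul_mem hm hm) (h2 ▸ hπ.mul hπ)
  have hu1 : m * m = 1 ∧ u = 1 := by
    have hpos : u⁻¹ ∈ uGe τ.good.good K false (half D) :=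
      posUnipotent_eq (F := K) τ.good.good ▸ inv_mem hu.1
    have hneg : m * u * m⁻¹ ∈ uGe τ.good.good K true (half D) :=
      negUnipotent_eq (F := K) τ.good.good ▸ hy
    have := eq_one_of_lower_diag τ.good hpos hneg (Φ.H₀_le_diag (inv_mem hmm)) (by
      calc u⁻¹ * (m * m)⁻¹ = u⁻¹ * (u * m * (u * m)) * (m * m)⁻¹ := by rw [hsq1]; group
        _ = m * u * m⁻¹ := by group)
    exact ⟨inv_eq_one.1 this.1, inv_eq_one.1 this.2⟩
  obtain ⟨hm2, rfl⟩ := hu1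
  rw [one_mul] at e
  -- remove the torus part
  set N := nWord Φ c.1 with hN
  have hN2 : N * N = 1 := hsq c hc
  set t := m * N⁻¹ with ht
  have htH : t ∈ Φ.H₀ := by
    refine Φ.mem_H₀_of_monBy_one hθ (mul_mem hm (inv_mem (nWord_mem Φ c.1))) ?_
    have := hπ.mul (monBy_nWord Φ c.1).inv
    rwa [← hπc, mul_inv_cancel] at this
  have hinv : N * t * N⁻¹ = t⁻¹ := by
    rw [eq_inv_iff_mul_eq_one, ht]
    calc N * (m * N⁻¹) * N⁻¹ * (m * N⁻¹) = N * m * (N * N)⁻¹ * m * N⁻¹ := by group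
      _ = N * (m * m) * N⁻¹ := by rw [hN2]; group
      _ = 1 := by rw [hm2]; group
  obtain ⟨d, hd⟩ := odd_orderOf_H₀ htH
  set s := t ^ (d + 1) with hs'
  have hss : s * s = t := by
    rw [hs', ← pow_add, show d + 1 + (d + 1) = 2 * d + 1 + 1 by omega, pow_succ, hd, one_mul]
  have hsN : N * s⁻¹ * N⁻¹ = s := by
    rw [hs', ← inv_pow, ← conj_pow, show N * t⁻¹ * N⁻¹ = t by
      rw [show N * t⁻¹ * N⁻¹ = (N * t * N⁻¹)⁻¹ by group, hinv, inv_inv]]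
  have hmN : m = s * N * s⁻¹ := by
    calc m = s * s * N := by rw [hss, ht]; group
      _ = s * (N * s⁻¹ * N⁻¹) * N := by rw [hsN]
      _ = s * N * s⁻¹ := by group
  refine ⟨c, hc, s⁻¹ * h, mul_mem (inv_mem (Φ.H₀_le_tG (pow_mem htH _))) hh, ?_⟩
  rw [show s⁻¹ * h * g * (s⁻¹ * h)⁻¹ = s⁻¹ * (h * g * h⁻¹) * s by group, e, hmN, hN]
  group

end CfsgLib.TwistInvol
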