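import Cfsg.Agent.TwistInvol.Bits
import Cfsg.Agent.TwistInvol.MaxCell
import Cfsg.Agent.GraphTwist.Words

/-!
# Orbit elements and monomial elements as products of root elements with parameter one
-/

set_option autoImplicit false

namespace CfsgLib.TwistInvol

open Cfsg.Lie CfsgLib.Chevalley CfsgLib.GraphTwist CfsgLib.UniInvol

variable {D : ChevalleyDatum} {τ : Setup D} {K : Type*} [Field K] [CharP K 2] (Φ : FieldTwist τ K)

theorem intCast_of_sq {z : ℤ} (h : z * z = 1) : (z : K) = 1 := by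
  rcases Int.eq_one_or_neg_one_of_mul_eq_one h with e | e <;> simp [e, CharTwo.neg_eq]

theorem tw_eq_iterate (j : ℕ) (a : Root D) (t : K) : Φ.tw j a t = Φ.f^[j] t := by
  induction j with
  | zero => rfl
  | succ j ih =>
    rw [FieldTwist.tw, ih, Function.iterate_succ_apply',
      intCast_of_sq (τ.valid.ok.root ((τ.σR ^ j) a).2).2.2.2.2.1, one_mul]

theorem xk_root (r : Root D) (t : K) : xk τ.good (r : ℕ) t = X τ.good.good r t := by
  rw [xk, dif_pos r.2]

theorem pat_map_val : ∀ L : List (Root D),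
    pat K τ.good (L.map fun r : Root D => (r : ℕ)) = (L.map fun r => X τ.good.good r (1 : K)).prod
  | [] => rfl
  | r :: L => by rw [List.map_cons, pat_cons, pat_map_val L, List.map_cons, List.prod_cons, xk_root (τ := τ)]

theorem oX_one (r : Root D) : Φ.oX r 1 = pat K τ.good (τ.cfg.orbN r) := by
  rw [← τ.orb_map_val, Setup.orb, show ((List.range (τ.osize r)).map fun j => (τ.σR ^ j) r).map Fin.val =
    ((List.range (τ.osize r)).map fun j => (τ.σR ^ j) r).map (fun a : Root D => (a : ℕ)) from rfl,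
    pat_map_val (τ := τ), FieldTwist.oX, List.map_map]
  refine congrArg List.prod (List.map_congr_left fun j _ => ?_)
  rw [Function.comp_apply, Φ.Ψ_pow_X, tw_eq_iterate, iterate_map_one]

variable (D) in
/-- The roots of the monomial element of a word. -/
def nWordL (T : GraphTwist.Cfg D) (c : List ℕ) : List ℕ :=
  c.flatMap fun o => (T.nodes.getD o []).flatMap fun i => [D.simple i, opp D (D.simple i), D.simple i]

theorem pat_flatMap {α : Type*} (f : α → List ℕ) : ∀ L : List α,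
    pat K τ.good (L.flatMap f) = (L.map fun a => pat K τ.good (f a)).prod
  | [] => rfl
  | a :: L => by rw [List.flatMap_cons, pat_append, pat_flatMap f L, List.map_cons, List.prod_cons]

theorem pat_nR (i : Fin D.rank) :
    pat K τ.good [D.simple i, opp D (D.simple i), D.simple i] = nR τ.good i := by
  rw [show D.simple i = ((pRoot τ.good i : Root D) : ℕ) from rfl, ← Setup.rev_val,
    show [((pRoot τ.good i : Root D) : ℕ), ((pRoot τ.good i).rev : Root D), (pRoot τ.good i : Root D)] =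
      ([pRoot τ.good i, (pRoot τ.good i).rev, pRoot τ.good i] : List (Root D)).map (fun a : Root D => (a : ℕ)) from rfl,
    pat_map_val (τ := τ)]
  simp [nR, CharTwo.neg_eq, mul_assoc]

theorem nWord_eq_pat {c : List ℕ} (hc : ∀ o ∈ c, o < τ.cfg.m) :
    nWord Φ c = pat K τ.good (nWordL D τ.cfg c) := by
  rw [nWord, nWordL, pat_flatMap (τ := τ)]
  refine congrArg List.prod (List.map_congr_left fun o ho => ?_)
  rw [dif_pos (hc o ho), Φ.nO_eq, ← τ.nlist_map_val ⟨o, hc o ho⟩, List.flatMap_map, pat_flatMap (τ := τ)]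
  exact congrArg List.prod (List.map_congr_left fun i _ => (pat_nR (τ := τ) i).symm)

variable [Finite K]

theorem oX_one_mem_tG (hθ : τ.Faithful) (r : Root D) : Φ.oX r 1 ∈ Φ.tG := by
  have hpos : ∀ (a : Root D) (t : K), half D ≤ (a : ℕ) → Φ.Adm a t → Φ.oX a t ∈ Φ.tG :=
    fun a t ha ht => Φ.U1_le_tG (Subgroup.mem_inf.2 ⟨Φ.oX_mem_pos ha t, Φ.oX_mem_fix ht⟩)
  rcases Nat.lt_or_ge (r : ℕ) (half D) with hr | hr
  swap
  · exact hpos r 1 hr (Φ.adm_one r)
  obtain ⟨n, hn, hπ⟩ := Φ.exists_n₀ hθ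
  obtain ⟨c, hc⟩ := Φ.conj_oX hπ (Φ.M₀_le_fix hn) r
  obtain ⟨ha, e⟩ := hc 1 (Φ.adm_one r)
  have h1 := hpos _ _ (τ.θ_w₀_neg hr hπ) ha
  rw [← e] at h1
  have h2 := mul_mem (mul_mem (inv_mem (Φ.M₀_le_tG hn)) h1) (Φ.M₀_le_tG hn)
  rwa [show n⁻¹ * (n * Φ.oX r 1 * n⁻¹) * n = Φ.oX r 1 by group] at h2

variable (D) in
/-- The roots of a product of orbit elements with parameter one. -/
def orbL (T : GraphTwist.Cfg D) (R : List ℕ) : List ℕ := R.flatMap T.orbN

theorem pat_orbL_mem (hθ : τ.Faithful) {R : List ℕ} (hR : ∀ r ∈ R, r < D.nroots) :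
    pat K τ.good (orbL D τ.cfg R) ∈ Φ.tG := by
  rw [orbL, pat_flatMap (τ := τ)]
  refine Subgroup.list_prod_mem _ fun x hx => ?_
  obtain ⟨r, hr, rfl⟩ := List.mem_map.1 hx
  have := oX_one_mem_tG Φ hθ ⟨r, hR r hr⟩
  rwa [oX_one] at this

/-- A conjugation inside the twisted group. -/
def chkTwistConj (T : GraphTwist.Cfg D) (tbl : List (List (ℕ × ℕ))) (R M Q : List ℕ) : Bool :=
  R.all (fun r => decide (r < D.nroots)) && chkConj D tbl (orbL D T R) M Q

theorem exists_conj_of_chk (hθ : τ.Faithful) {tbl : List (List (ℕ × ℕ))} (hT : chkOps D tbl = true)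
    {R M Q : List ℕ} (h : chkTwistConj τ.cfg tbl R M Q = true) :
    ∃ x ∈ Φ.tG, x * pat K τ.good M * x⁻¹ = pat K τ.good Q := by
  simp only [chkTwistConj, Bool.and_eq_true, List.all_eq_true, decide_eq_true_eq] at h
  exact ⟨_, pat_orbL_mem Φ hθ h.1, pat_conj_of_chk hT h.2⟩

end CfsgLib.TwistInvol
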