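import Cfsg.Agent.TwistInvol.CheckE6
import Cfsg.Agent.TwistInvol.RankE6
import Cfsg.Agent.UniInvol.E6
import Cfsg.Agent.GraphTwist.FamilyE6

/-!
# The three classes of involutions of `²E₆` in characteristic two

An involution is conjugate to the monomial element of a candidate; these are conjugated to three
products of root elements of the highest orbits, told apart by the rank of `y - 1`.
-/

set_option autoImplicit false
set_option maxRecDepth 20000

namespace CfsgLib.TwistInvol.E6

open Cfsg.Lie CfsgLib.Chevalley CfsgLib.GraphTwist CfsgLib.UniInvol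

variable {K : Type*} [Field K]

variable (K) in
/-- A product of root elements with parameter one. -/
abbrev P (L : List ℕ) : GL chevE6.Idx K := pat K setupE6.good L

/-- The representatives. -/
def reps : List (List ℕ) := [[71], [66, 68], [53, 66, 68]]

theorem targets_ok : (fusion.all fun e => decide (e.2.2 ∈ reps) || decide (e.2.2 = [66, 68, 69])) = true := by
  decide +kernel

theorem reps_orbL :
    orbL chevE6 setupE6.cfg [71] = [71] ∧ orbL chevE6 setupE6.cfg [66] = [66, 68] ∧
    orbL chevE6 setupE6.cfg [53, 66] = [53, 66, 68] := by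
  decide +kernel

theorem orb_42 :
    setupE6.osize (⟨42, by decide⟩ : Root chevE6) = 2 ∧
      ((setupE6.σR ^ 1) (⟨42, by decide⟩ : Root chevE6) : ℕ) = 37 ∧
      setupE6.σR (⟨42, by decide⟩ : Root chevE6) ≠ ⟨42, by decide⟩ ∧
      half chevE6 ≤ 42 := by
  decide +kernel

theorem special_ok :
    ((collect UniInvol.E6.tbl chevE6.nroots
      ((42, [[1]]) :: (37, [[1], []]) :: oneWord [66, 68, 69] ++ [(37, [[1], []]), (42, [[1]])])) =
        some (oneWord [66, 68])) ∧
    ((((42, [[1]]) :: (37, [[1], []]) :: oneWord [66, 68, 69] ++ [(37, [[1], []]), (42, [[1]])] : Word).all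
      fun l => decide (half chevE6 ≤ l.1) && decide (l.1 < chevE6.nroots)) = true) := by
  decide +kernel

variable [CharP K 2] (Φ : FieldTwist setupE6 K)

theorem exists_param [Finite K] (hne : ∃ x, Φ.f x ≠ x) : ∃ s : K, s ≠ 0 ∧ Φ.f s = s + 1 := by
  obtain ⟨x, hx⟩ := hne
  have hz : Φ.f x + x ≠ 0 := fun e => hx (by rwa [CharTwo.add_eq_zero] at e)
  have hfz : Φ.f (Φ.f x + x) = Φ.f x + x := by
    have h2 : Φ.f (Φ.f x) = x := Φ.periodic x
    rw [map_add, h2, add_comm]
  have hs : Φ.f (x / (Φ.f x + x)) = x / (Φ.f x + x) + 1 := by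
    rw [map_div₀, hfz, div_add_one hz, ← add_assoc, add_comm x (Φ.f x), add_assoc,
      CharTwo.add_self_eq_zero, add_zero]
  refine ⟨_, fun e => ?_, hs⟩
  rw [e, map_zero, zero_add] at hs
  exact zero_ne_one hs

/-- The pattern which needs a parameter. -/
theorem exists_conj_special [Finite K] (hne : ∃ x, Φ.f x ≠ x) :
    ∃ x ∈ Φ.tG, x * P K [66, 68, 69] * x⁻¹ = P K [66, 68] := by
  obtain ⟨s, hs0, hfs⟩ := exists_param Φ hne
  obtain ⟨hsz, hσ, hnf, hpos⟩ := orb_42
  set a : Root chevE6 := ⟨42, by decide⟩ with ha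
  have hb : (setupE6.σR ^ 1) a = ⟨37, by decide⟩ := Fin.ext hσ
  have hx : Φ.oX a s = xk setupE6.good 42 s * xk setupE6.good 37 (s + 1) := by
    rw [FieldTwist.oX, hsz]
    simp only [List.range_succ, List.range_zero, List.nil_append, List.cons_append, List.map_cons,
      List.map_nil, List.prod_cons, List.prod_nil, mul_one, Φ.Ψ_pow_X, tw_eq_iterate, hb,
      Function.iterate_zero_apply, Function.iterate_one, hfs, pow_zero, Equiv.Perm.one_apply]
    rw [xk, dif_pos (by decide), xk, dif_pos (by decide)]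
  refine ⟨Φ.oX a s, Φ.U1_le_tG (Subgroup.mem_inf.2 ⟨Φ.oX_mem_pos hpos s,
    Φ.oX_mem_fix fun h => absurd h hnf⟩), ?_⟩
  have hv : ∀ i : ℕ, (fun _ : ℕ => s) i ≠ 0 := fun _ => hs0
  obtain ⟨-, r⟩ := collect_spec (hW := setupE6.good) (v := fun _ => s) hv UniInvol.E6.tbl_ok
    (w := (42, [[1]]) :: (37, [[1], []]) :: oneWord [66, 68, 69] ++ [(37, [[1], []]), (42, [[1]])])
    (fun l hl => by simpa using List.all_eq_true.1 special_ok.2 l hl) special_ok.1
  have e := r.eq_of_top
  rw [evW_append, evW_cons, evW_cons, evW_cons, evW_cons, evW_nil, evW_oneWord, evW_oneWord] at e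
  show _ * pat K setupE6.good [66, 68, 69] * _ = pat K setupE6.good [66, 68]
  rw [hx, mul_inv_rev, xk_self_inv, xk_self_inv, ← e]
  simp [evP, evM, mul_assoc]

variable [Finite K]

theorem exists_conj_rep (hne : ∃ x, Φ.f x ≠ x) {c : List ℕ} (hc : c ∈ fusion.map Prod.fst) :
    ∃ x ∈ Φ.tG, ∃ L ∈ reps, x * nWord Φ c * x⁻¹ = P K L := by
  obtain ⟨e, he, rfl⟩ := List.mem_map.1 hc
  have h := List.all_eq_true.1 fusion_ok e he
  simp only [chkFusion, Bool.and_eq_true, List.all_eq_true, decide_eq_true_eq] at h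
  obtain ⟨x, hx, ex⟩ := exists_conj_of_chk Φ setupE6_faithful ops_ok h.2
  rw [← nWord_eq_pat Φ (fun o ho => (h.1 o ho : o < 4))] at ex
  have ht := List.all_eq_true.1 targets_ok e he
  simp only [Bool.or_eq_true, decide_eq_true_eq] at ht
  rcases ht with ht | ht
  · exact ⟨x, hx, _, ht, ex⟩
  · obtain ⟨y, hy, ey⟩ := exists_conj_special Φ hne
    refine ⟨y * x, mul_mem hy hx, [66, 68], by simp [reps], ?_⟩
    rw [ht] at ex
    rw [← ey, ← show x * nWord Φ e.1 * x⁻¹ = P K [66, 68, 69] from ex]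
    group

theorem rep_mem_tG {L : List ℕ} (hL : L ∈ reps) : P K L ∈ Φ.tG := by
  obtain ⟨h1, h2, h3⟩ := reps_orbL
  simp only [reps, List.mem_cons, List.not_mem_nil, or_false] at hL
  rcases hL with rfl | rfl | rfl
  · rw [← h1]; exact pat_orbL_mem Φ setupE6_faithful (by decide)
  · rw [← h2]; exact pat_orbL_mem Φ setupE6_faithful (by decide)
  · rw [← h3]; exact pat_orbL_mem Φ setupE6_faithful (by decide)

theorem rep_sq {L : List ℕ} (hL : L ∈ reps) : P K L * P K L = 1 := by
  refine pat_sq UniInvol.E6.tbl_ok ?_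
  revert L
  decide +kernel

theorem rank_rep :
    ((P K [71] : Matrix chevE6.Idx chevE6.Idx K) - 1).rank = 22 ∧
    ((P K [66, 68] : Matrix chevE6.Idx chevE6.Idx K) - 1).rank = 32 ∧
    ((P K [53, 66, 68] : Matrix chevE6.Idx chevE6.Idx K) - 1).rank = 38 :=
  ⟨rank_pat UniInvol.E6.prod0_ok UniInvol.E6.rank0_ok, rank_pat UniInvol.E6.prod1_ok UniInvol.E6.rank1_ok,
    rank_pat prod0_ok rank0_ok⟩

theorem rep_ne_one {L : List ℕ} (hL : L ∈ reps) : P K L ≠ 1 := by
  obtain ⟨r0, r1, r2⟩ := rank_rep (K := K)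
  intro e
  simp only [reps, List.mem_cons, List.not_mem_nil, or_false] at hL
  rcases hL with rfl | rfl | rfl <;>
    simp [e, Units.val_one] at r0 r1 r2

theorem eq_of_conj {L L' : List ℕ} (hL : L ∈ reps) (hL' : L' ∈ reps) {h : GL chevE6.Idx K}
    (e : h * P K L * h⁻¹ = P K L') : L = L' := by
  have hr := rank_sub_one_conj h (P K L)
  rw [e] at hr
  obtain ⟨r0, r1, r2⟩ := rank_rep (K := K)
  simp only [reps, List.mem_cons, List.not_mem_nil, or_false] at hL hL'
  rcases hL with rfl | rfl | rfl <;> rcases hL' with rfl | rfl | rfl <;>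
    first
    | rfl
    | (exfalso; omega)

/-- Every involution is conjugate to a representative. -/
theorem exists_conj (hne : ∃ x, Φ.f x ≠ x) {g : GL chevE6.Idx K} (hg : g ∈ Φ.tG) (hg2 : g * g = 1)
    (hg1 : g ≠ 1) : ∃ x ∈ Φ.tG, ∃ L ∈ reps, x * g * x⁻¹ = P K L := by
  have hsq : ∀ c ∈ cands, nWord Φ c.1 * nWord Φ c.1 = 1 := by
    intro c hc
    have := List.mem_map_of_mem (f := Prod.fst) hc
    rw [cands_ok, List.mem_cons] at this
    rcases this with e | e
    · rw [e]; simp [nWord]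
    · obtain ⟨x, -, L, hL, ex⟩ := exists_conj_rep Φ hne e
      have h1 : x * (nWord Φ c.1 * nWord Φ c.1) * x⁻¹ = 1 := by
        rw [← rep_sq (K := K) hL, ← ex]; group
      exact conj_eq_one_iff.1 h1
  obtain ⟨c, hc, h, hh, e⟩ := exists_conj_nWord setupE6_faithful states_ok (by decide +kernel) cover_ok
    hsq hg hg2
  have := List.mem_map_of_mem (f := Prod.fst) hc
  rw [cands_ok, List.mem_cons] at this
  rcases this with e1 | e1
  · exact absurd (conj_eq_one_iff.1 (e.trans (by rw [e1]; simp [nWord]))) hg1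
  · obtain ⟨x, hx, L, hL, ex⟩ := exists_conj_rep Φ hne e1
    refine ⟨x * h, mul_mem hx hh, L, hL, ?_⟩
    rw [← ex, ← e]
    group

/-- There are exactly three classes of involutions. -/
theorem ncard_classes (hne : ∃ x, Φ.f x ≠ x) :
    (ConjClasses.mk '' {g : ↥Φ.tG | orderOf g = 2}).ncard = 3 := by
  classical
  let R : List ℕ → ↥Φ.tG := fun L => if h : L ∈ reps then ⟨P K L, rep_mem_tG Φ h⟩ else 1
  have hR : ∀ L ∈ reps, ((R L : ↥Φ.tG) : GL chevE6.Idx K) = P K L := fun L hL => by simp [R, hL]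
  have hord : ∀ L ∈ reps, orderOf (R L) = 2 := fun L hL => by
    rw [← Subgroup.orderOf_coe, hR L hL]
    exact orderOf_eq_prime (by rw [pow_two]; exact rep_sq hL) (rep_ne_one hL)
  have himg : ConjClasses.mk '' {g : ↥Φ.tG | orderOf g = 2} =
      ↑(reps.toFinset.image fun L => ConjClasses.mk (R L)) := by
    ext C
    simp only [Finset.coe_image, Set.mem_image, Finset.mem_coe, List.mem_toFinset, Set.mem_setOf_eq]
    constructor
    · rintro ⟨g, hg, rfl⟩
      have hg2 : (g : GL chevE6.Idx K) * g = 1 := by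
        have := pow_orderOf_eq_one g
        rw [hg, pow_two] at this
        exact congrArg Subtype.val this
      have hg1 : (g : GL chevE6.Idx K) ≠ 1 := fun e => by
        rw [show g = 1 from Subtype.ext e, orderOf_one] at hg
        omega
      obtain ⟨x, hx, L, hL, e⟩ := exists_conj Φ hne g.2 hg2 hg1
      refine ⟨L, hL, (ConjClasses.mk_eq_mk_iff_isConj.2 ?_).symm⟩
      exact isConj_iff.2 ⟨⟨x, hx⟩, Subtype.ext (by simpa [hR L hL] using e)⟩
    · rintro ⟨L, hL, rfl⟩
      exact ⟨R L, hord L hL, rfl⟩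
  rw [himg, Set.ncard_coe_finset, Finset.card_image_of_injOn]
  · decide
  · intro L hL L' hL' e
    rw [Finset.mem_coe, List.mem_toFinset] at hL hL'
    obtain ⟨⟨x, hx⟩, ex⟩ := isConj_iff.1 (ConjClasses.mk_eq_mk_iff_isConj.1 e)
    refine eq_of_conj hL hL' (h := x) ?_
    have := congrArg Subtype.val ex
    simpa [hR L hL, hR L' hL'] using this

end CfsgLib.TwistInvol.E6
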