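import Cfsg.Agent.TwistInvol.DataE6
import Cfsg.Agent.TwistInvol.Words
import Cfsg.Agent.GraphTwist.DataE6

/-!
# The certificates for the involutions of `²E₆` are valid
-/

set_option autoImplicit false
set_option maxRecDepth 20000

namespace CfsgLib.TwistInvol.E6

open Cfsg.Lie CfsgLib.GraphTwist CfsgLib.Chevalley

theorem states_ok : chkStates setupE6.cfg 1152 tab idx = true := by decide +kernel

theorem cover_ok : chkCover setupE6.cfg tab cands = true := by decide +kernel

/-- The monomial element of a candidate goes to its target. -/
def chkFusion (e : List ℕ × List ℕ × List ℕ) : Bool :=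
  (e.1.all fun o => decide (o < 4)) &&
    chkTwistConj setupE6.cfg ops e.2.1 (nWordL chevE6 setupE6.cfg e.1) e.2.2

theorem ops_ok : chkOps chevE6 ops = true := by decide +kernel

theorem fusion_ok : fusion.all chkFusion = true := by decide +kernel

theorem cands_ok : cands.map Prod.fst = [] :: fusion.map Prod.fst := by decide +kernel

end CfsgLib.TwistInvol.E6
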