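import Cfsg.Agent.GraphTwist.BN

/-!
# The folded Weyl group on the roots

Perms that belong to fixed monomial elements; their inversions; a closed table of the images of the
fundamental roots.
-/

set_option autoImplicit false

namespace CfsgLib.TwistInvol

open Cfsg.Lie CfsgLib.Chevalley CfsgLib.GraphTwist

variable {D : ChevalleyDatum} {τ : Setup D} {K : Type*} [Field K] (Φ : FieldTwist τ K)

/-- `π` is the action of a fixed monomial element. -/
def Real (π : Equiv.Perm (Root D)) : Prop := ∃ m ∈ Φ.M₀, MonBy τ.good m π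

theorem real_wR (o : Fin τ.cfg.m) : Real Φ (τ.wR o) := ⟨_, Φ.nO_mem_M₀ o, Φ.monBy_nO o⟩

variable {Φ}

theorem Real.mul {π ρ : Equiv.Perm (Root D)} (h : Real Φ π) (h' : Real Φ ρ) : Real Φ (π * ρ) := by
  obtain ⟨m, hm, hπ⟩ := h
  obtain ⟨n, hn, hρ⟩ := h'
  exact ⟨m * n, mul_mem hm hn, hπ.mul hρ⟩

theorem Real.inv {π : Equiv.Perm (Root D)} (h : Real Φ π) : Real Φ π⁻¹ := by
  obtain ⟨m, hm, hπ⟩ := h
  exact ⟨m⁻¹, inv_mem hm, hπ.inv⟩

theorem Real.comm {π : Equiv.Perm (Root D)} (h : Real Φ π) (r : Root D) : π (τ.σR r) = τ.σR (π r) := by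
  obtain ⟨m, hm, hπ⟩ := h
  exact Φ.monBy_comm hπ (Φ.M₀_le_fix hm) r

theorem Real.comm_pow {π : Equiv.Perm (Root D)} (h : Real Φ π) (j : ℕ) (r : Root D) :
    π ((τ.σR ^ j) r) = (τ.σR ^ j) (π r) := by
  induction j with
  | zero => rfl
  | succ j ih => rw [pow_succ', Equiv.Perm.mul_apply, h.comm, ih, Equiv.Perm.mul_apply]

theorem Real.apply_rev {π : Equiv.Perm (Root D)} (h : Real Φ π) (r : Root D) :
    π r.rev = (π r).rev := by
  obtain ⟨m, hm, hπ⟩ := h
  exact hπ.apply_rev r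

theorem Real.pos_iff_of_orb {π : Equiv.Perm (Root D)} (h : Real Φ π) {r a : Root D} (ha : a ∈ τ.orb r) :
    half D ≤ (π a : ℕ) ↔ half D ≤ (π r : ℕ) := by
  obtain ⟨j, rfl⟩ := τ.mem_orb_iff.1 ha
  rw [h.comm_pow]
  exact τ.σR_pow_pos j _

theorem Real.orb_map {π : Equiv.Perm (Root D)} (h : Real Φ π) {r a : Root D} (ha : a ∈ τ.orb r) :
    π a ∈ τ.orb (π r) := by
  obtain ⟨j, rfl⟩ := τ.mem_orb_iff.1 ha
  rw [h.comm_pow]
  exact τ.mem_orb_iff.2 ⟨j, rfl⟩

/-- A fundamental orbit sent to itself gives a commuting reflection. -/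
theorem Real.commute_wR {π : Equiv.Perm (Root D)} (h : Real Φ π) {o : Fin τ.cfg.m}
    (ho : π (τ.spR o) ∈ τ.orb (τ.spR o)) : π * τ.wR o = τ.wR o * π := by
  obtain ⟨m, hm, hπ⟩ := h
  have h1 := Φ.conj_nO_mem hπ (Φ.M₀_le_fix hm) ho
  have h2 : MonBy τ.good (m * Φ.nO o * m⁻¹ * (Φ.nO o)⁻¹) 1 := monBy_diag τ.good (Φ.H₀_le_diag h1)
  have h3 := ((hπ.mul (Φ.monBy_nO o)).mul hπ.inv).mul (Φ.monBy_nO o).inv
  have e := h3.unique h2
  rwa [mul_inv_eq_one, mul_inv_eq_iff_eq_mul] at e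

theorem two_half_lt (τ : Setup D) (r : Root D) : (r : ℕ) < 2 * half D := by
  have := τ.good.good.two_half
  have := r.2
  omega

theorem rev_pos_iff (τ : Setup D) (r : Root D) : half D ≤ (r.rev : ℕ) ↔ (r : ℕ) < half D := by
  have := τ.good.good.two_half
  have := r.2
  rw [Fin.val_rev]
  omega

/-- The positive roots sent to negative ones. -/
def negOf (π : Equiv.Perm (Root D)) : Finset (Root D) :=
  Finset.univ.filter fun r => half D ≤ (r : ℕ) ∧ (π r : ℕ) < half D

theorem mem_negOf {π : Equiv.Perm (Root D)} {r : Root D} :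
    r ∈ negOf π ↔ half D ≤ (r : ℕ) ∧ (π r : ℕ) < half D := by simp [negOf]

theorem card_negOf_lt {π π' : Equiv.Perm (Root D)} {w : Equiv.Perm (Root D)} {a : Root D}
    (h : ∀ b ∈ negOf π, w b ∈ negOf π') (ha : a ∈ negOf π') (hna : ∀ b ∈ negOf π, w b ≠ a) :
    (negOf π).card < (negOf π').card := by
  classical
  have hsub : insert a ((negOf π).image w) ⊆ negOf π' := by
    intro x hx
    rcases Finset.mem_insert.1 hx with rfl | hx
    · exact ha
    · obtain ⟨b, hb, rfl⟩ := Finset.mem_image.1 hx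
      exact h b hb
  have hn : a ∉ (negOf π).image w := fun hx => by
    obtain ⟨b, hb, e⟩ := Finset.mem_image.1 hx
    exact hna b hb e
  have := Finset.card_le_card hsub
  rw [Finset.card_insert_of_notMem hn, Finset.card_image_of_injective _ w.injective] at this
  omega

theorem notMem_orb_of_negOf {π : Equiv.Perm (Root D)} (h : Real Φ π) {o : Fin τ.cfg.m}
    (ho : half D ≤ (π (τ.spR o) : ℕ)) {b : Root D} (hb : b ∈ negOf π) : b ∉ τ.orb (τ.spR o) := by
  intro hm
  have := (h.pos_iff_of_orb hm).2 ho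
  have := (mem_negOf.1 hb).2
  omega

theorem image_negOf {π : Equiv.Perm (Root D)} (h : Real Φ π) {o : Fin τ.cfg.m}
    (ho : half D ≤ (π (τ.spR o) : ℕ)) {b : Root D} (hb : b ∈ negOf π) :
    half D ≤ (τ.wR o b : ℕ) ∧ τ.wR o b ∉ τ.orb (τ.spR o) :=
  τ.wR_pos (mem_negOf.1 hb).1 (notMem_orb_of_negOf h ho hb)

/-- Conjugation by a fundamental reflection goes up. -/
theorem card_lt_conj {π : Equiv.Perm (Root D)} (h : Real Φ π) (h2 : π * π = 1) {o : Fin τ.cfg.m}
    (ho : half D ≤ (π (τ.spR o) : ℕ)) (hn : π (τ.spR o) ∉ τ.orb (τ.spR o)) :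
    (negOf π).card < (negOf (τ.wR o * π * τ.wR o)).card := by
  refine card_negOf_lt (w := τ.wR o) (a := τ.spR o) (fun b hb => ?_) ?_ fun b hb e => ?_
  · refine mem_negOf.2 ⟨(image_negOf h ho hb).1, ?_⟩
    rw [Equiv.Perm.mul_apply, Equiv.Perm.mul_apply, ← Equiv.Perm.mul_apply (τ.wR o) (τ.wR o), τ.wR_wR,
      Equiv.Perm.one_apply]
    by_contra hc
    push Not at hc
    have hneg := (mem_negOf.1 hb).2
    -- the negative root is the opposite of a root of the orbit
    by_cases hm : (π b).rev ∈ τ.orb (τ.spR o)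
    · have h5 := h.apply_rev (π b)
      rw [← Equiv.Perm.mul_apply π π, h2, Equiv.Perm.one_apply] at h5
      have h4 := (h.pos_iff_of_orb hm).2 ho
      rw [h5, rev_pos_iff τ] at h4
      have := (mem_negOf.1 hb).1
      omega
    · have h6 := (τ.wR_pos (o := o) ((rev_pos_iff τ _).2 hneg) hm).1
      rw [(real_wR Φ o).apply_rev, rev_pos_iff τ] at h6
      omega
  · refine mem_negOf.2 ⟨τ.spR_pos o, ?_⟩
    rw [Equiv.Perm.mul_apply, Equiv.Perm.mul_apply, τ.wR_orb (τ.self_mem_orb _), h.apply_rev,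
      (real_wR Φ o).apply_rev]
    have h6 := (τ.wR_pos ho hn).1
    have := τ.good.good.two_half
    have := two_half_lt τ (τ.wR o (π (τ.spR o)))
    rw [Fin.val_rev]
    omega
  · have := (image_negOf h ho hb).2
    rw [e] at this
    exact this (τ.self_mem_orb _)

/-- A reflection fixed by conjugation can be appended. -/
theorem card_lt_mul {π : Equiv.Perm (Root D)} (h : Real Φ π) {o : Fin τ.cfg.m}
    (hm : π (τ.spR o) ∈ τ.orb (τ.spR o)) :
    (negOf π).card < (negOf (π * τ.wR o)).card := by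
  have ho : half D ≤ (π (τ.spR o) : ℕ) := τ.orb_spR_pos hm
  refine card_negOf_lt (w := τ.wR o) (a := τ.spR o) (fun b hb => ?_) ?_ fun b hb e => ?_
  · refine mem_negOf.2 ⟨(image_negOf h ho hb).1, ?_⟩
    rw [Equiv.Perm.mul_apply, ← Equiv.Perm.mul_apply (τ.wR o) (τ.wR o), τ.wR_wR, Equiv.Perm.one_apply]
    exact (mem_negOf.1 hb).2
  · refine mem_negOf.2 ⟨τ.spR_pos o, ?_⟩
    rw [Equiv.Perm.mul_apply, τ.wR_orb (τ.self_mem_orb _), h.apply_rev, Fin.val_rev]
    have := τ.good.good.two_half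
    have := (π (τ.spR o)).2
    omega
  · have := (image_negOf h ho hb).2
    rw [e] at this
    exact this (τ.self_mem_orb _)

theorem Real.eq_one {π : Equiv.Perm (Root D)} (h : Real Φ π) (hs : ∀ o, π (τ.spR o) = τ.spR o) :
    π = 1 := by
  have hw : ∀ o, ∀ r, π (τ.wR o r) = τ.wR o (π r) := fun o r => by
    have := congrArg (fun p : Equiv.Perm (Root D) => p r)
      (h.commute_wR (o := o) (by rw [hs]; exact τ.self_mem_orb _))
    simpa [Equiv.Perm.mul_apply] using this
  have hrep : ∀ n (i : Fin τ.norb), (i : ℕ) = n → π (τ.rep i) = τ.rep i := by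
    intro n
    induction n using Nat.strong_induction_on with
    | _ n ih =>
      intro i hi
      have hdesc := List.all_eq_true.1 τ.valid.descend i (List.mem_range.2 i.2)
      simp only [Cfg.chkDescend, Bool.or_eq_true, List.any_eq_true, List.mem_range,
        Bool.and_eq_true, decide_eq_true_eq, List.contains_iff_mem] at hdesc
      rcases hdesc with ⟨o, ho, hmem⟩ | ⟨o, ho, hpos, hlt⟩
      · obtain ⟨j, hj⟩ := τ.mem_orb_iff.1 (τ.mem_orbN_iff.1 hmem :
          τ.rep i ∈ τ.orb (τ.spR ⟨o, ho⟩))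
        rw [← hj, h.comm_pow, hs]
      · have hval : (τ.wR ⟨o, ho⟩ (τ.rep i) : ℕ) = τ.cfg.wO o (τ.cfg.reps.getD i 0) :=
          τ.wR_val ⟨o, ho⟩ (τ.rep i)
        rw [← hval] at hpos hlt
        obtain ⟨hj, hm⟩ := τ.exists_orbPos hpos
        obtain ⟨j, hj'⟩ := τ.mem_orb_iff.1 hm
        have h1 := ih _ (hi ▸ hlt) ⟨_, hj⟩ rfl
        have h2 : π (τ.wR ⟨o, ho⟩ (τ.rep i)) = τ.wR ⟨o, ho⟩ (τ.rep i) := by
          rw [← hj', h.comm_pow, h1]
        rw [hw] at h2
        exact (τ.wR ⟨o, ho⟩).injective h2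
  refine Equiv.ext fun r => ?_
  have hpos : ∀ r : Root D, half D ≤ (r : ℕ) → π r = r := fun r hr => by
    obtain ⟨hj, hm⟩ := τ.exists_orbPos hr
    obtain ⟨j, hj'⟩ := τ.mem_orb_iff.1 hm
    rw [← hj', h.comm_pow, hrep _ _ rfl]
  rw [Equiv.Perm.one_apply]
  by_cases hr : half D ≤ (r : ℕ)
  · exact hpos r hr
  · have := hpos r.rev ((rev_pos_iff τ r).2 (by omega))
    rwa [h.apply_rev, Fin.rev_inj] at this

theorem Real.ext {π ρ : Equiv.Perm (Root D)} (h : Real Φ π) (h' : Real Φ ρ)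
    (hs : ∀ o, π (τ.spR o) = ρ (τ.spR o)) : π = ρ := by
  have := (h'.inv.mul h).eq_one fun o => by rw [Equiv.Perm.mul_apply, hs]; simp
  rwa [inv_mul_eq_one, eq_comm] at this

variable (Φ)

/-- The monomial element of a word. -/
def nWord (c : List ℕ) : GL D.Idx K :=
  (c.map fun o => if h : o < τ.cfg.m then Φ.nO ⟨o, h⟩ else 1).prod

theorem nWord_mem : ∀ c : List ℕ, nWord Φ c ∈ Φ.M₀ := fun c =>
  Subgroup.list_prod_mem _ fun x hx => by
    obtain ⟨o, -, rfl⟩ := List.mem_map.1 hx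
    split
    · exact Φ.nO_mem_M₀ _
    · exact one_mem _

variable (τ) in
/-- The permutation of a word. -/
def wPermW (c : List ℕ) : Equiv.Perm (Root D) :=
  (c.map fun o => if h : o < τ.cfg.m then τ.wR ⟨o, h⟩ else 1).prod

theorem monBy_nWord : ∀ c : List ℕ, MonBy τ.good (nWord Φ c) (wPermW τ c)
  | [] => MonBy.one τ.good
  | o :: c => by
    have ih := monBy_nWord c
    simp only [nWord, wPermW, List.map_cons, List.prod_cons]
    refine MonBy.mul ?_ ih
    split
    · exact Φ.monBy_nO _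
    · exact MonBy.one τ.good

theorem real_wPermW (c : List ℕ) : Real Φ (wPermW τ c) := ⟨_, nWord_mem Φ c, monBy_nWord Φ c⟩

theorem wPermW_val : ∀ {c : List ℕ}, (∀ o ∈ c, o < τ.cfg.m) → ∀ r : Root D,
    (wPermW τ c r : ℕ) = τ.cfg.wW c r
  | [], _, r => rfl
  | o :: c, h, r => by
    simp only [wPermW, List.map_cons, List.prod_cons, Equiv.Perm.mul_apply]
    rw [dif_pos (h o (by simp)), τ.wR_val]
    show τ.cfg.wO o _ = _
    rw [show ((c.map fun o => if h : o < τ.cfg.m then τ.wR ⟨o, h⟩ else 1).prod r : ℕ) =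
      τ.cfg.wW c r from wPermW_val (fun x hx => h x (by simp [hx])) r]
    rfl

/-! ### The table of the images of the fundamental roots -/

/-- The table contains the images of the fundamental roots and is closed. -/
def chkStates (T : GraphTwist.Cfg D) (n : ℕ) (tab : List (List ℕ × List ℕ)) (idx : Trie (List ℕ)) :
    Bool :=
  decide (tab.length = n) && decide (idx.get 0 = [(List.range T.m).map T.sp]) &&
  tab.zipIdx.all fun e =>
    decide (idx.get e.2 = [e.1.1]) && (List.range T.m).all fun o =>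
      decide (e.1.2.getD o 0 < n) && decide (idx.get (e.1.2.getD o 0) = [e.1.1.map (T.wO o)])

theorem chkStates_spec {n : ℕ} {tab : List (List ℕ × List ℕ)} {idx : Trie (List ℕ)}
    (h : chkStates τ.cfg n tab idx = true) (h0 : tab ≠ []) (w : τ.cfg.M.Group) :
    ∃ e ∈ tab, ∀ o : Fin τ.cfg.m, (τ.θ w (τ.spR o) : ℕ) = e.1.getD o 0 := by
  simp only [chkStates, Bool.and_eq_true, decide_eq_true_eq, List.all_eq_true, List.mem_range] at h
  obtain ⟨⟨hn, hz⟩, hall⟩ := h
  have row : ∀ (k : ℕ) (hk : k < tab.length), idx.get k = [tab[k].1] ∧ ∀ o < τ.cfg.m,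
      tab[k].2.getD o 0 < n ∧ idx.get (tab[k].2.getD o 0) = [tab[k].1.map (τ.cfg.wO o)] :=
    fun k hk => hall (tab[k], k) (List.mem_zipIdx_iff_getElem?.2 (List.getElem?_eq_getElem hk))
  suffices H : ∃ k < tab.length, idx.get k =
      [(List.finRange τ.cfg.m).map fun o => (τ.θ w (τ.spR o) : ℕ)] by
    obtain ⟨k, hk, he⟩ := H
    refine ⟨_, List.getElem_mem hk, fun o => ?_⟩
    have h1 := (List.cons.inj ((row k hk).1.symm.trans he)).1
    rw [h1, List.getD_eq_getElem _ _ (by simp)]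
    simp
  induction w using τ.cfg.M.toCoxeterSystem.simple_induction_left with
  | one =>
    refine ⟨0, List.length_pos_of_ne_nil h0, ?_⟩
    rw [hz]
    congr 1
    refine List.ext_getElem (by simp) fun j h1 h2 => ?_
    simp [Setup.spR_val]
  | mul_simple_left w i ih =>
    obtain ⟨k, hk, he⟩ := ih
    have hs := (List.cons.inj ((row k hk).1.symm.trans he)).1
    obtain ⟨hlt, hi⟩ := (row k hk).2 i i.2
    refine ⟨_, hn ▸ hlt, ?_⟩
    rw [hi, hs, List.map_map]
    congr 1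
    refine List.map_congr_left fun o _ => ?_
    rw [Function.comp_apply, map_mul, Equiv.Perm.mul_apply, CoxeterMatrix.toCoxeterSystem_simple,
      τ.θ_simple, τ.wR_val]

end CfsgLib.TwistInvol
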